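import Groth.Prelude.Def_W4c3tautjacobianRel
import Mathlib

/-! The operator `F` of the formal relation ring. -/

namespace Groth.Agent.TautJac

open MvPolynomial W4c3tautjacobian

variable {g : ℕ}

/-- Integral bidegree. -/
def wz (g : ℕ) (v : Var g) : ℤ × ℤ := (((wt g v).1 : ℤ), ((wt g v).2 : ℤ))

theorem weight_wz (d : Var g →₀ ℕ) :
    Finsupp.weight (wz g) d = (((Finsupp.weight (wt g) d).1 : ℤ), ((Finsupp.weight (wt g) d).2 : ℤ)) := by
  induction d using Finsupp.induction_linear with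
  | zero => simp [Prod.ext_iff]
  | add a b ha hb => simp [map_add, ha, hb]
  | single v n => simp [Finsupp.weight_single, wz, Prod.ext_iff]

theorem hom_wz {P : RelRing g} {i n : ℕ} (h : IsWeightedHomogeneous (wt g) P ((i, n) : ℕ × ℕ)) :
    IsWeightedHomogeneous (wz g) P (((i : ℤ), (n : ℤ)) : ℤ × ℤ) := fun d hd => by
  rw [weight_wz, h hd]

/-- The partial derivative, linearly. -/
noncomputable def dvL (g : ℕ) (p : ℕ × ℕ) : RelRing g →ₗ[ℚ] RelRing g :=
  if h : Valid g p then (pderiv (some ⟨p, h⟩)).toLinearMap else 0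

theorem dvL_apply (p : ℕ × ℕ) (P : RelRing g) : dvL g p P = dv g p P := by
  unfold dvL dv; split_ifs <;> rfl

/-- The coefficient of the second order part. -/
noncomputable def cF (g : ℕ) (p q : ℕ × ℕ) : RelRing g :=
  X none * xv g ((p.1 : ℤ) - 1) ((p.2 : ℤ) - 1) * xv g ((q.1 : ℤ) - 1) ((q.2 : ℤ) - 1)
    - (mergeCoeff p.1 q.1 : RelRing g) * xv g ((p.1 : ℤ) + q.1 - 2) ((p.2 : ℤ) + q.2)

/-- `F`, linearly. -/
noncomputable def FL (g : ℕ) : RelRing g →ₗ[ℚ] RelRing g :=
  (1 / 2 : ℚ) • (∑ p ∈ idx g, ∑ q ∈ idx g, LinearMap.mulLeft ℚ (cF g p q) ∘ₗ dvL g p ∘ₗ dvL g q)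
    + ∑ p ∈ idx g, LinearMap.mulLeft ℚ (xv g ((p.1 : ℤ) - 2) (p.2 : ℤ)) ∘ₗ dvL g p

theorem FL_eq : ⇑(FL g) = F g := by
  funext P
  simp [FL, F, cF, dvL_apply, LinearMap.sum_apply]

theorem F_add (P Q : RelRing g) : F g (P + Q) = F g P + F g Q := by rw [← FL_eq, map_add]
theorem F_zero : F g 0 = 0 := by rw [← FL_eq, map_zero]
theorem F_smul (c : ℚ) (P : RelRing g) : F g (c • P) = c • F g P := by rw [← FL_eq, map_smul]

theorem xv_hom (i j : ℤ) : IsWeightedHomogeneous (wz g) (xv g i j) ((i, j) : ℤ × ℤ) := by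
  unfold xv
  split_ifs with h h'
  · obtain ⟨rfl, rfl⟩ := h
    rw [← map_natCast (C (σ := Var g) (R := ℚ))]
    exact isWeightedHomogeneous_C (wz g) _
  · have := isWeightedHomogeneous_X ℚ (wz g) (some ⟨(i.toNat, j.toNat), h'.2.2⟩)
    convert this using 1
    simp [wz, wt, Int.toNat_of_nonneg h'.1, Int.toNat_of_nonneg h'.2.1]
  · exact isWeightedHomogeneous_zero ℚ _ _

theorem dv_hom {P : RelRing g} {μ : ℤ × ℤ} (h : IsWeightedHomogeneous (wz g) P μ) (p : ℕ × ℕ) :
    IsWeightedHomogeneous (wz g) (dv g p P) (μ - ((p.1 : ℤ), (p.2 : ℤ))) := by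
  unfold dv
  split_ifs with hp
  swap
  · exact isWeightedHomogeneous_zero ℚ _ _
  rw [← mem_weightedHomogeneousSubmodule, P.as_sum, map_sum]
  refine sum_mem fun d hd => ?_
  rw [pderiv_monomial]
  by_cases h0 : d (some ⟨p, hp⟩) = 0
  · simp [h0]
  refine isWeightedHomogeneous_monomial _ _ _ ?_
  have hle : Finsupp.single (some ⟨p, hp⟩ : Var g) 1 ≤ d :=
    Finsupp.single_le_iff.2 (Nat.one_le_iff_ne_zero.2 h0)
  have hwd := h (mem_support_iff.1 hd)
  conv_lhs at hwd => rw [← tsub_add_cancel_of_le hle, map_add, Finsupp.weight_single, one_smul]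
  rw [← hwd]
  simp [wz, wt]

theorem F_hom {P : RelRing g} {μ : ℤ × ℤ} (h : IsWeightedHomogeneous (wz g) P μ) :
    IsWeightedHomogeneous (wz g) (F g P) (μ + ((-2, 0) : ℤ × ℤ)) := by
  rw [← mem_weightedHomogeneousSubmodule]
  unfold F
  have hy : IsWeightedHomogeneous (wz g) (X none : RelRing g) ((0, 2) : ℤ × ℤ) := by
    simpa [wz, wt] using isWeightedHomogeneous_X ℚ (wz g) none
  refine add_mem (Submodule.smul_mem _ _ (sum_mem fun p _ => sum_mem fun q _ => ?_)) (sum_mem fun p _ => ?_)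
  · rw [sub_mul]
    refine sub_mem ?_ ?_
    · rw [mem_weightedHomogeneousSubmodule]
      convert ((hy.mul (xv_hom _ _)).mul (xv_hom _ _)).mul (dv_hom (dv_hom h q) p) using 1
      obtain ⟨a, b⟩ := μ
      simp only [Prod.mk_sub_mk, Prod.mk_add_mk, Prod.mk.injEq]
      constructor <;> ring
    · rw [mem_weightedHomogeneousSubmodule, ← map_natCast (C (σ := Var g) (R := ℚ))]
      convert ((isWeightedHomogeneous_C (wz g) _).mul (xv_hom _ _)).mul (dv_hom (dv_hom h q) p) using 1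
      obtain ⟨a, b⟩ := μ
      simp only [Prod.mk_sub_mk, Prod.mk_add_mk, zero_add, Prod.mk.injEq]
      constructor <;> ring
  · rw [mem_weightedHomogeneousSubmodule]
    convert (xv_hom _ _).mul (dv_hom h p) using 1
    obtain ⟨a, b⟩ := μ
    simp only [Prod.mk_sub_mk, Prod.mk_add_mk, Prod.mk.injEq]
    constructor <;> ring

theorem iterate_hom {P : RelRing g} {μ : ℤ × ℤ} (h : IsWeightedHomogeneous (wz g) P μ) (m : ℕ) :
    IsWeightedHomogeneous (wz g) ((F g)^[m] P) (μ + ((-2 * (m : ℤ), 0) : ℤ × ℤ)) := by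
  induction m with
  | zero => simpa [Prod.mk_zero_zero] using h
  | succ m ih =>
    rw [Function.iterate_succ_apply']
    convert F_hom ih using 1
    obtain ⟨a, b⟩ := μ
    simp only [Prod.mk_add_mk, Prod.mk.injEq]
    constructor <;> push_cast <;> ring

theorem eq_zero_of_neg {P : RelRing g} {a b : ℤ} (h : IsWeightedHomogeneous (wz g) P ((a, b) : ℤ × ℤ))
    (ha : a < 0) : P = 0 := by
  ext d
  rw [coeff_zero]
  by_contra hd
  have := h hd
  rw [weight_wz, Prod.mk.injEq] at this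
  omega

instance instFintypeVarIdx : Fintype {p : ℕ × ℕ // Valid g p} :=
  Fintype.subtype ((idx g).filter (Valid g)) fun p => by
    simp only [Finset.mem_filter, idx, Finset.mem_product, Finset.mem_range, and_iff_right_iff_imp]
    rintro ⟨h1, h2, -, -⟩
    omega

theorem mem_idx {p : ℕ × ℕ} (h : Valid g p) : p ∈ idx g := by
  obtain ⟨h1, h2, -, -⟩ := h
  simp only [idx, Finset.mem_product, Finset.mem_range]
  omega

theorem sum_idx {M : Type*} [AddCommMonoid M] (f : ℕ × ℕ → M) (hf : ∀ p, ¬ Valid g p → f p = 0) :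
    ∑ p ∈ idx g, f p = ∑ v : {p : ℕ × ℕ // Valid g p}, f v.1 := by
  rw [← Finset.sum_filter_of_ne (p := Valid g) fun p _ h => by_contra fun hp => h (hf p hp)]
  exact Finset.sum_subtype _ (fun p => by simp [Finset.mem_filter]; exact mem_idx) f

theorem xv_valid {p : ℕ × ℕ} (h : Valid g p) :
    xv g (p.1 : ℤ) (p.2 : ℤ) = X (some ⟨p, h⟩) := by
  unfold xv
  rw [if_neg ?_, dif_pos ⟨Int.natCast_nonneg _, Int.natCast_nonneg _, by simpa using h⟩]
  · congr 2
  · rintro ⟨h1, h2⟩
    exact h.2.2.2 (Prod.ext (by exact_mod_cast h1) (by exact_mod_cast h2))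

theorem X_mul_pderiv_monomial' (v : Var g) (d : Var g →₀ ℕ) (c : ℚ) :
    X v * pderiv v (monomial d c) = ((d v : ℕ) : ℚ) • monomial d c := by
  rw [pderiv_monomial]
  by_cases h0 : d v = 0
  · simp [h0]
  rw [X, monomial_mul, smul_monomial, one_mul, add_comm,
    tsub_add_cancel_of_le (Finsupp.single_le_iff.2 (Nat.one_le_iff_ne_zero.2 h0)), smul_eq_mul, mul_comm]

theorem euler {P : RelRing g} {a b : ℤ} (h : IsWeightedHomogeneous (wz g) P ((a, b) : ℤ × ℤ)) :
    ∑ q ∈ idx g, (q.1 : RelRing g) * xv g (q.1 : ℤ) (q.2 : ℤ) * dv g q P = (a : ℚ) • P := by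
  classical
  have key : ∀ d c, ∑ q ∈ idx g, (q.1 : RelRing g) * xv g (q.1 : ℤ) (q.2 : ℤ) * dv g q (monomial d c) =
      (((Finsupp.weight (wz g) d).1 : ℤ) : ℚ) • monomial d c := by
    intro d c
    rw [sum_idx (fun q => (q.1 : RelRing g) * xv g (q.1 : ℤ) (q.2 : ℤ) * dv g q (monomial d c))
      (fun q hq => by simp [dv, hq])]
    have : ∀ v : {p : ℕ × ℕ // Valid g p},
        (v.1.1 : RelRing g) * xv g (v.1.1 : ℤ) (v.1.2 : ℤ) * dv g v.1 (monomial d c) =
        ((v.1.1 * d (some v) : ℕ) : ℚ) • monomial d c := by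
      rintro ⟨p, hp⟩
      rw [xv_valid hp, dv, dif_pos hp, mul_assoc, X_mul_pderiv_monomial']
      simp only [Nat.cast_mul, mul_smul, smul_eq_C_mul, map_natCast]
    rw [Finset.sum_congr rfl fun v _ => this v, ← Finset.sum_smul]
    congr 1
    rw [Finsupp.weight_apply, Finsupp.sum_fintype _ _ (fun _ => by simp), Fintype.sum_option, Prod.fst_add,
      Prod.fst_sum]
    simp [wz, wt, mul_comm]
  conv_lhs => rw [P.as_sum]
  simp only [← dvL_apply, map_sum, Finset.mul_sum]
  rw [Finset.sum_comm]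
  simp only [dvL_apply]
  conv_rhs => rw [P.as_sum, Finset.smul_sum]
  refine Finset.sum_congr rfl fun d hd => ?_
  rw [key, h (mem_support_iff.1 hd)]

theorem cF_comm (p q : ℕ × ℕ) : cF g p q = cF g q p := by
  unfold cF mergeCoeff
  rw [show (p.1 : ℤ) + q.1 - 2 = q.1 + p.1 - 2 by ring, show (p.2 : ℤ) + q.2 = q.2 + p.2 by ring]
  have : (if p.1 = 0 ∨ q.1 = 0 then 0 else Nat.choose (p.1 + q.1 - 2) (p.1 - 1)) =
      (if q.1 = 0 ∨ p.1 = 0 then 0 else Nat.choose (q.1 + p.1 - 2) (q.1 - 1)) := by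
    by_cases h : p.1 = 0 ∨ q.1 = 0
    · rw [if_pos h, if_pos h.symm]
    · rw [if_neg h, if_neg (fun h' => h h'.symm), ← Nat.choose_symm (show p.1 - 1 ≤ p.1 + q.1 - 2 by omega)]
      congr 1 <;> omega
  rw [this]; ring

theorem cF_two (q : ℕ × ℕ) :
    cF g (2, 0) q = -((q.1 : RelRing g) * xv g (q.1 : ℤ) (q.2 : ℤ)) := by
  unfold cF
  have h : xv g (((2 : ℕ) : ℤ) - 1) (((0 : ℕ) : ℤ) - 1) = 0 := by
    unfold xv; rw [if_neg (by simp), dif_neg (by simp)]
  have hm : mergeCoeff 2 q.1 = q.1 := by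
    rcases Nat.eq_zero_or_pos q.1 with h | h
    · simp [mergeCoeff, h]
    · rw [mergeCoeff, if_neg (by omega), show 2 + q.1 - 2 = q.1 by omega]; simp
  simp only [h, mul_zero, zero_mul, zero_sub, hm]
  simp

theorem F_E (hg : 1 ≤ g) {P : RelRing g} {a b : ℤ} (h : IsWeightedHomogeneous (wz g) P ((a, b) : ℤ × ℤ)) :
    F g (E g P) = E g (F g P) + ((g : ℚ) - a) • P := by
  classical
  have hv : Valid g (2, 0) := ⟨le_rfl, by simpa using hg, by simp, by simp⟩
  have hx : xv g 2 0 = X (some ⟨(2, 0), hv⟩) := xv_valid hv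
  have hd : ∀ (p : ℕ × ℕ) (Q : RelRing g), dv g p (xv g 2 0 * Q) =
      xv g 2 0 * dv g p Q + if p = (2, 0) then Q else 0 := by
    intro p Q
    unfold dv
    by_cases hp : Valid g p
    · rw [dif_pos hp, dif_pos hp, pderiv_mul, hx]
      by_cases he : p = (2, 0)
      · subst he; rw [if_pos rfl, pderiv_X_self, one_mul, add_comm]
      · rw [if_neg he, pderiv_X_of_ne (by simpa using fun h' => he h'.symm), zero_mul, zero_add, add_zero]
    · rw [dif_neg hp, dif_neg hp, if_neg (fun he => hp (by rw [he]; exact hv)), mul_zero, add_zero]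
  have hadd : ∀ (p : ℕ × ℕ) (A B : RelRing g), dv g p (A + B) = dv g p A + dv g p B := fun p A B => by
    simp [← dvL_apply]
  have hite : ∀ (p q : ℕ × ℕ), dv g p (if q = (2, 0) then P else 0) = if q = (2, 0) then dv g p P else 0 := by
    intro p q; split_ifs <;> simp [← dvL_apply]
  have h20 : (2, 0) ∈ idx g := mem_idx hv
  have h2 : ∑ p ∈ idx g, ∑ q ∈ idx g, cF g p q * dv g p (dv g q (xv g 2 0 * P)) =
      xv g 2 0 * (∑ p ∈ idx g, ∑ q ∈ idx g, cF g p q * dv g p (dv g q P)) - (2 * a : ℚ) • P := by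
    simp only [hd, hadd, hite, mul_add, Finset.sum_add_distrib, mul_ite, mul_zero]
    simp only [Finset.sum_ite_irrel, Finset.sum_const_zero, Finset.sum_ite_eq', h20, if_true]
    rw [Finset.sum_congr rfl fun p (_ : p ∈ idx g) =>
      show cF g p (2, 0) * dv g p P = cF g (2, 0) p * dv g p P by rw [cF_comm]]
    simp only [cF_two, neg_mul, Finset.sum_neg_distrib, euler h, Finset.mul_sum, mul_left_comm (xv g 2 0)]
    rw [two_mul, add_smul]
    abel
  have h1 : ∑ p ∈ idx g, xv g ((p.1 : ℤ) - 2) (p.2 : ℤ) * dv g p (xv g 2 0 * P) =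
      xv g 2 0 * (∑ p ∈ idx g, xv g ((p.1 : ℤ) - 2) (p.2 : ℤ) * dv g p P) + (g : ℚ) • P := by
    simp only [hd, mul_add, Finset.sum_add_distrib, mul_ite, mul_zero, Finset.sum_ite_eq', h20, if_true,
      Finset.mul_sum, mul_left_comm (xv g 2 0)]
    congr 1
    unfold xv
    rw [if_pos (by simp), smul_eq_C_mul, map_natCast C]
  unfold E
  show (1 / 2 : ℚ) • (∑ p ∈ idx g, ∑ q ∈ idx g, cF g p q * dv g p (dv g q (xv g 2 0 * P))) + _ =
    xv g 2 0 * ((1 / 2 : ℚ) • (∑ p ∈ idx g, ∑ q ∈ idx g, cF g p q * dv g p (dv g q P)) + _) + _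
  rw [h1, h2, mul_add, mul_smul_comm, smul_sub, smul_smul]
  simp only [show (1 / 2 : ℚ) * (2 * a) = a by ring, sub_smul]
  abel

theorem iterate_E (hg : 1 ≤ g) {P : RelRing g} {a b : ℤ}
    (h : IsWeightedHomogeneous (wz g) P ((a, b) : ℤ × ℤ)) (m : ℕ) :
    (F g)^[m + 1] (E g P) = E g ((F g)^[m + 1] P) +
      (((m : ℚ) + 1) * ((g : ℚ) - a + m)) • (F g)^[m] P := by
  induction m with
  | zero => simp [F_E hg h]
  | succ m ih =>
    rw [Function.iterate_succ_apply' (F g) (m + 1) (E g P), ih, F_add, F_smul,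
      ← Function.iterate_succ_apply' (F g) m P]
    have hm : IsWeightedHomogeneous (wz g) ((F g)^[m + 1] P) ((a + (-2 * ((m + 1 : ℕ) : ℤ)), b) : ℤ × ℤ) := by
      simpa using iterate_hom h (m + 1)
    rw [F_E hg hm, ← Function.iterate_succ_apply' (F g) (m + 1) P, add_assoc, ← add_smul]
    congr 2
    push_cast; ring

theorem kill (hg : 1 ≤ g) : ∀ (a m : ℕ) (r : RelRing g) (b n : ℕ),
    IsWeightedHomogeneous (wz g) r (((2 * b : ℕ) : ℤ), (n : ℤ)) → b ≤ g → a + b = m → g < m →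
      (F g)^[m] ((xv g 2 0) ^ a * r) = 0
  | 0, m, r, b, n, _, hb, hm, hgm => by omega
  | a + 1, m, r, b, n, hr, hb, hm, hgm => by
    obtain ⟨m, rfl⟩ : ∃ k, m = k + 1 := ⟨m - 1, by omega⟩
    have hβ : IsWeightedHomogeneous (wz g) ((xv g 2 0) ^ a * r) ((2 * (m : ℤ), (n : ℤ)) : ℤ × ℤ) := by
      convert ((xv_hom 2 0).pow a).mul hr using 1
      simp only [Prod.smul_mk, Prod.mk_add_mk, Prod.mk.injEq, nsmul_eq_mul]
      constructor
      · push_cast
        have : (m : ℤ) = a + b := by exact_mod_cast (show m = a + b by omega)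
        rw [this]; ring
      · ring
    rw [pow_succ', mul_assoc, show xv g 2 0 * ((xv g 2 0) ^ a * r) = E g ((xv g 2 0) ^ a * r) from rfl,
      iterate_E hg hβ, eq_zero_of_neg (P := (F g)^[m + 1] _) (a := 2 * (m : ℤ) + -2 * ((m + 1 : ℕ) : ℤ))
        (b := (n : ℤ)) (by simpa using iterate_hom hβ (m + 1)) (by push_cast; omega)]
    rcases (show g ≤ m by omega).eq_or_lt with heq | hlt
    · subst heq
      rw [show ((g : ℚ) - ((2 * (g : ℤ) : ℤ) : ℚ) + g) = 0 by push_cast; ring, mul_zero, zero_smul]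
      simp [E]
    · rw [kill hg a m r b n hr hb (by omega) hlt]; simp [E]

theorem iterate_zero_of (m : ℕ) : (F g)^[m] (0 : RelRing g) = 0 := by
  induction m with
  | zero => rfl
  | succ m ih => rw [Function.iterate_succ_apply', ih, F_zero]

theorem monomial_low (hg : 1 ≤ g) {d : Var g →₀ ℕ} {m : ℕ} (hd : 2 * g < (Finsupp.weight (wt g) d).1)
    (h1 : (Finsupp.weight (wt g) d).1 = 2 * m) (h2 : 3 * (Finsupp.weight (wt g) d).2 ≤ 2 * g) :
    (F g)^[m] (monomial d 1) = 0 := by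
  classical
  have hv : Valid g (2, 0) := ⟨le_rfl, by simpa using hg, by simp, by simp⟩
  set v : Var g := some ⟨(2, 0), hv⟩
  set r := d.erase v
  have hd' : d = Finsupp.single v (d v) + r := (Finsupp.single_add_erase v d).symm
  have hr : (Finsupp.weight (wt g) r).1 ≤ 3 * (Finsupp.weight (wt g) r).2 := by
    rw [Finsupp.weight_apply, Finsupp.sum, Prod.fst_sum, Prod.snd_sum, Finset.mul_sum]
    refine Finset.sum_le_sum fun u hu => ?_
    have hne : u ≠ v := by
      rw [Finsupp.support_erase] at hu; exact Finset.ne_of_mem_erase hu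
    rcases u with - | ⟨⟨i, j⟩, hij⟩
    · simp [wt]
    · simp only [wt, Prod.smul_mk, smul_eq_mul]
      obtain ⟨h1, h2, h3, h4⟩ := hij
      dsimp only at h1 h2 h3 h4
      rw [Nat.even_iff] at h3
      have : i ≤ 3 * j := by
        by_contra h
        have hj : j = 0 := by omega
        subst hj
        have hi : i = 2 := by
          rcases Nat.lt_or_ge i 2 with h' | h'
          · exact absurd (show i = 0 by omega) (fun h0 => h4 (by rw [h0]))
          · omega
        exact hne (by subst hi; rfl)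
      nlinarith [Nat.mul_le_mul_left (r (some ⟨(i, j), ⟨h1, h2, Nat.even_iff.2 h3, h4⟩⟩)) this]
  have hsum : Finsupp.weight (wt g) d = d v • wt g v + Finsupp.weight (wt g) r := by
    conv_lhs => rw [hd']
    rw [map_add, Finsupp.weight_single]
  have hv1 : wt g v = (2, 0) := rfl
  rw [hsum, hv1] at h1 h2 hd
  simp only [Prod.fst_add, Prod.snd_add, Prod.smul_fst, Prod.smul_snd, smul_eq_mul, mul_zero, zero_add] at h1 h2 hd
  have hpow : xv g 2 0 ^ d v * monomial r (1 : ℚ) = monomial d 1 := by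
    rw [show xv g 2 0 = X v from xv_valid hv, X_pow_eq_monomial, monomial_mul, one_mul, ← hd']
  rw [← hpow]
  refine kill hg (d v) m (monomial r 1) (m - d v) (Finsupp.weight (wt g) r).2 ?_ (by omega) (by omega) (by omega)
  refine isWeightedHomogeneous_monomial _ _ _ ?_
  rw [weight_wz]
  congr 2
  omega

theorem relIdeal_low (hg : 1 ≤ g) {n : ℕ} (hn : 3 * n ≤ 2 * g) {P : RelRing g} (hP : P ∈ relIdeal g)
    (hhom : IsWeightedHomogeneous (wt g) P ((0, n) : ℕ × ℕ)) : P = 0 := by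
  classical
  rw [← (hom_wz hhom).weightedHomogeneousComponent_same]
  suffices h : ∀ r : RelRing g,
      weightedHomogeneousComponent (wz g) (((0 : ℕ) : ℤ), (n : ℤ)) (P * r) = 0 by simpa using h 1
  clear hhom
  induction hP using Submodule.span_induction with
  | zero => intro r; simp
  | add a b _ _ ha hb => intro r; rw [add_mul, map_add, ha, hb, add_zero]
  | smul c a _ ha => intro r; rw [smul_eq_mul, show c * a * r = a * (c * r) by ring]; exact ha _
  | mem G hG =>
    obtain ⟨d, m, hd, rfl⟩ := hG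
    have hG := iterate_hom (isWeightedHomogeneous_monomial (wz g) d (1 : ℚ) rfl) m
    intro r
    induction r using MvPolynomial.induction_on' with
    | add a b ha hb => rw [mul_add, map_add, ha, hb, add_zero]
    | monomial e c =>
      by_cases hz : (F g)^[m] (monomial d (1 : ℚ)) = 0
      · simp [hz]
      have hprod := hG.mul (isWeightedHomogeneous_monomial (wz g) e c rfl)
      refine hprod.weightedHomogeneousComponent_ne _ fun heq => hz ?_
      have hc : ¬ ((Finsupp.weight (wz g) d).1 + -2 * (m : ℤ) < 0) := fun hneg =>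
        hz (eq_zero_of_neg (a := _) (b := (Finsupp.weight (wz g) d).2) (by convert hG using 1; simp [Prod.ext_iff]) hneg)
      rw [weight_wz, weight_wz] at heq
      rw [weight_wz] at hc
      simp only [Prod.ext_iff, Prod.fst_add, Prod.snd_add] at heq
      refine monomial_low hg hd ?_ ?_ <;> omega

theorem iterate_E_zero (hg : 1 ≤ g) {n : ℕ} {β : RelRing g}
    (hβ : IsWeightedHomogeneous (wt g) β ((2 * g, n) : ℕ × ℕ)) :
    (F g)^[g + 1] (E g β) = 0 := by
  have := kill hg 1 (g + 1) β g n (hom_wz hβ) le_rfl (by ring) (Nat.lt_succ_self g)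
  simpa [E] using this

end Groth.Agent.TautJac
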