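import Groth.Agent.TautJac.Basic

/-! Generation of the first-degree-zero part. -/

namespace Groth.Agent.TautJac

open MvPolynomial W4c3tautjacobian

variable {g : ℕ}

theorem F_X_none_mul (Q : RelRing g) : F g (X none * Q) = X none * F g Q := by
  have hd : ∀ (p : ℕ × ℕ) (Q : RelRing g), dv g p (X none * Q) = X none * dv g p Q := by
    intro p Q
    unfold dv
    split_ifs
    · rw [pderiv_mul, pderiv_X_of_ne (by simp), zero_mul, zero_add]
    · rw [mul_zero]
  simp only [F, hd, mul_add, mul_smul_comm, Finset.mul_sum, mul_left_comm (X none : RelRing g)]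

/-- The linear coefficient after `m` steps. -/
noncomputable def Lam (v₀ : Var g) (m : ℕ) : RelRing g →ₗ[ℚ] ℚ :=
  (lcoeff ℚ (Finsupp.single v₀ 1)) ∘ₗ (FL g ^ m)

theorem Lam_apply (v₀ : Var g) (m : ℕ) (P : RelRing g) :
    Lam v₀ m P = coeff (Finsupp.single v₀ 1) ((F g)^[m] P) := by
  rw [Lam, LinearMap.comp_apply, lcoeff_apply, Module.End.pow_apply, FL_eq]

theorem Lam_none_mul {v₀ : Var g} (hv₀ : v₀ ≠ none) (m : ℕ) (Q : RelRing g) :
    Lam v₀ m (X none * Q) = 0 := by
  classical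
  rw [Lam_apply]
  have : (F g)^[m] (X none * Q) = X none * (F g)^[m] Q := by
    induction m with
    | zero => rfl
    | succ m ih => rw [Function.iterate_succ_apply', ih, F_X_none_mul, Function.iterate_succ_apply']
  rw [this, coeff_X_mul', if_neg]
  simpa [Finsupp.single_apply, eq_comm] using hv₀

/-- Monomials in variables of positive second degree without `y`. -/
def Good (d : Var g →₀ ℕ) : Prop :=
  d none = 0 ∧ ∀ v, d (some v) ≠ 0 → 1 ≤ v.1.2

/-- Signed coefficient. -/
noncomputable def sig (v₀ : Var g) (m : ℕ) (d : Var g →₀ ℕ) : ℚ :=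
  (-1) ^ (d.degree + 1) * Lam v₀ m (monomial d 1)

theorem Lam_succ (v₀ : Var g) (m : ℕ) (P : RelRing g) : Lam v₀ (m + 1) P = Lam v₀ m (F g P) := by
  rw [Lam_apply, Lam_apply, Function.iterate_succ_apply]

theorem Good.add_single {d : Var g →₀ ℕ} (h : Good d) {p : ℕ × ℕ} (hp : Valid g p) (hj : 1 ≤ p.2) :
    Good (Finsupp.single (some ⟨p, hp⟩) 1 + d) := by
  classical
  refine ⟨by simp [h.1], fun v hv => ?_⟩
  by_cases he : v = ⟨p, hp⟩
  · subst he; exact hj
  · exact h.2 v (by simpa [Finsupp.single_apply, Ne.symm he] using hv)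

theorem Good.sub {d : Var g →₀ ℕ} (h : Good d) (e : Var g →₀ ℕ) : Good (d - e) :=
  ⟨by simp [h.1], fun v hv => h.2 v (fun h0 => hv (by simp [h0]))⟩

theorem dv_monomial {d : Var g →₀ ℕ} (hd : Good d) {p : ℕ × ℕ} (c : ℚ) :
    dv g p (monomial d c) = 0 ∨ ∃ (hp : Valid g p), 1 ≤ p.2 ∧ 0 < d (some ⟨p, hp⟩) ∧
      dv g p (monomial d c) = (c * d (some ⟨p, hp⟩)) • monomial (d - Finsupp.single (some ⟨p, hp⟩) 1) 1 := by
  unfold dv
  split_ifs with hp
  · by_cases h0 : d (some ⟨p, hp⟩) = 0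
    · left; rw [pderiv_monomial, h0]; simp
    · exact Or.inr ⟨hp, hd.2 _ h0, Nat.pos_of_ne_zero h0,
        by rw [pderiv_monomial, smul_monomial, smul_eq_mul, mul_one]⟩
  · exact Or.inl rfl

theorem degree_sub_single {d : Var g →₀ ℕ} {v : Var g} (h : 0 < d v) :
    (d - Finsupp.single v 1).degree + 1 = d.degree := by
  conv_rhs => rw [← tsub_add_cancel_of_le (show Finsupp.single v 1 ≤ d from Finsupp.single_le_iff.2 h)]
  rw [map_add, Finsupp.degree_single]

/-- The merging term of a pair. -/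
noncomputable def term2 (v₀ : Var g) (m : ℕ) (d : Var g →₀ ℕ) (p q : ℕ × ℕ) : ℚ :=
  (-1) ^ (d.degree + 1) * Lam v₀ m (cF g p q * dv g p (dv g q (monomial d 1)))

/-- The shifting term. -/
noncomputable def term1 (v₀ : Var g) (m : ℕ) (d : Var g →₀ ℕ) (p : ℕ × ℕ) : ℚ :=
  (-1) ^ (d.degree + 1) * Lam v₀ m (xv g ((p.1 : ℤ) - 2) (p.2 : ℤ) * dv g p (monomial d 1))

theorem sig_succ (v₀ : Var g) (m : ℕ) (d : Var g →₀ ℕ) :
    sig v₀ (m + 1) d = (1 / 2) * (∑ p ∈ idx g, ∑ q ∈ idx g, term2 v₀ m d p q) +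
      ∑ p ∈ idx g, term1 v₀ m d p := by
  unfold sig term2 term1
  rw [Lam_succ]
  show _ * Lam v₀ m ((1 / 2 : ℚ) • (∑ p ∈ idx g, ∑ q ∈ idx g, cF g p q * dv g p (dv g q (monomial d 1))) + _) = _
  simp only [map_add, map_smul, map_sum, smul_eq_mul, mul_add, Finset.mul_sum]
  congr 1
  exact Finset.sum_congr rfl fun p _ => Finset.sum_congr rfl fun q _ => by ring

theorem xv_mul_nonneg {v₀ : Var g} {m : ℕ} (ih : ∀ d, Good d → 0 ≤ sig v₀ m d) {i j : ℤ} (hj : 1 ≤ j)
    {d : Var g →₀ ℕ} (hd : Good d) :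
    0 ≤ (-1 : ℚ) ^ d.degree * Lam v₀ m (xv g i j * monomial d 1) := by
  unfold xv
  rw [if_neg (by rintro ⟨-, h⟩; omega)]
  split_ifs with h
  · have hnn := ih _ (hd.add_single h.2.2 (show 1 ≤ j.toNat by omega))
    rw [sig, map_add, Finsupp.degree_single, show 1 + d.degree + 1 = d.degree + 2 by omega, pow_add,
      neg_one_sq, mul_one] at hnn
    rwa [X, monomial_mul, one_mul]
  · simp

theorem term2_eq {v₀ : Var g} (hv₀ : v₀ ≠ none) (m : ℕ) (d : Var g →₀ ℕ) {p q : ℕ × ℕ} {N : ℚ}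
    {e : Var g →₀ ℕ} (he : dv g p (dv g q (monomial d 1)) = N • monomial e 1) (hdeg : e.degree + 2 = d.degree) :
    term2 v₀ m d p q = N * (mergeCoeff p.1 q.1 : ℚ) *
      ((-1) ^ e.degree * Lam v₀ m (xv g ((p.1 : ℤ) + q.1 - 2) ((p.2 : ℤ) + q.2) * monomial e 1)) := by
  rw [term2, he, cF, sub_mul, map_sub, mul_assoc (X none), mul_assoc (X none), Lam_none_mul hv₀, zero_sub,
    ← map_natCast (C (σ := Var g) (R := ℚ)), ← smul_eq_C_mul, smul_mul_smul_comm, map_smul, smul_eq_mul,
    ← hdeg, pow_succ, pow_add, neg_one_sq]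
  ring

theorem term2_nonneg {v₀ : Var g} (hv₀ : v₀ ≠ none) {m : ℕ} (ih : ∀ d, Good d → 0 ≤ sig v₀ m d)
    {d : Var g →₀ ℕ} (hd : Good d) (p q : ℕ × ℕ) : 0 ≤ term2 v₀ m d p q := by
  rcases dv_monomial hd (p := q) 1 with h | ⟨hq, hqj, hq0, h⟩
  · simp [term2, h, ← dvL_apply]
  rcases dv_monomial (hd.sub (Finsupp.single (some ⟨q, hq⟩) 1)) (p := p) 1 with h' | ⟨hp, hpj, hp0, h'⟩
  · simp [term2, h, ← dvL_apply, map_smul]
    simp [dvL_apply, h']
  have he : dv g p (dv g q (monomial d 1)) = ((d (some ⟨q, hq⟩) : ℚ) *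
      ((d - Finsupp.single (some ⟨q, hq⟩) 1 : Var g →₀ ℕ) (some ⟨p, hp⟩) : ℚ)) •
      monomial (d - Finsupp.single (some ⟨q, hq⟩) 1 - Finsupp.single (some ⟨p, hp⟩) 1) 1 := by
    rw [h, one_mul, ← dvL_apply, map_smul, dvL_apply, h', one_mul, smul_smul]
  have hdeg : (d - Finsupp.single (some ⟨q, hq⟩ : Var g) 1 - Finsupp.single (some ⟨p, hp⟩ : Var g) 1).degree + 2 = d.degree := by
    have := degree_sub_single hq0
    have := degree_sub_single hp0
    omega
  rw [term2_eq hv₀ m d he hdeg]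
  exact mul_nonneg (by positivity) (xv_mul_nonneg ih (by omega) ((hd.sub _).sub _))

theorem term1_nonneg {v₀ : Var g} {m : ℕ} (ih : ∀ d, Good d → 0 ≤ sig v₀ m d)
    {d : Var g →₀ ℕ} (hd : Good d) (p : ℕ × ℕ) : 0 ≤ term1 v₀ m d p := by
  rcases dv_monomial hd (p := p) 1 with h | ⟨hp, hpj, hp0, h⟩
  · simp [term1, h]
  rw [term1, h, mul_smul_comm, map_smul, smul_eq_mul, ← degree_sub_single hp0, one_mul,
    show ∀ n : ℕ, n + 1 + 1 = n + 2 from fun n => rfl, pow_add, neg_one_sq, mul_one, mul_left_comm]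
  exact mul_nonneg (Nat.cast_nonneg _) (xv_mul_nonneg ih (by omega) (hd.sub _))

theorem sig_nonneg {v₀ : Var g} (hv₀ : v₀ ≠ none) :
    ∀ (m : ℕ) (d : Var g →₀ ℕ), Good d → 0 ≤ sig v₀ m d := by
  classical
  intro m
  induction m with
  | zero =>
    intro d _
    rw [sig, Lam_apply, Function.iterate_zero_apply, coeff_monomial]
    split_ifs with h
    · rw [h, Finsupp.degree_single]; norm_num
    · simp
  | succ m ih =>
    intro d hd
    rw [sig_succ]
    exact add_nonneg (mul_nonneg (by norm_num)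
      (Finset.sum_nonneg fun p _ => Finset.sum_nonneg fun q _ => term2_nonneg hv₀ ih hd p q))
      (Finset.sum_nonneg fun p _ => term1_nonneg ih hd p)

theorem shift_pos {i : ℕ} (hi : 1 ≤ i) (hg : i + 1 ≤ g) (h0 : Valid g (0, 2 * i)) :
    ∀ (s : ℕ) (_ : s ≤ i + 1) (h : Valid g (2 * s, 2 * i)),
      0 < sig (some ⟨(0, 2 * i), h0⟩) s (Finsupp.single (some ⟨(2 * s, 2 * i), h⟩) 1) := by
  intro s
  induction s with
  | zero =>
    intro _ h
    rw [sig, Lam_apply, Function.iterate_zero_apply, Finsupp.degree_single, coeff_monomial, if_pos rfl]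
    norm_num
  | succ s ih =>
    intro hs h
    have hv : Valid g (2 * s, 2 * i) :=
      ⟨by dsimp; omega, by dsimp; omega, by simp [parity_simps], by simp; omega⟩
    have hgood : Good (Finsupp.single (some ⟨(2 * (s + 1), 2 * i), h⟩) 1 : Var g →₀ ℕ) := by
      simpa using Good.add_single (d := 0) ⟨rfl, fun v hv => absurd rfl hv⟩ h (show 1 ≤ 2 * i by omega)
    have hne : (some ⟨(0, 2 * i), h0⟩ : Var g) ≠ none := by simp
    rw [sig_succ]
    refine add_pos_of_nonneg_of_pos (mul_nonneg (by norm_num) (Finset.sum_nonneg fun p _ =>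
      Finset.sum_nonneg fun q _ => term2_nonneg hne (sig_nonneg hne s) hgood p q)) ?_
    refine Finset.sum_pos' (fun p _ => term1_nonneg (sig_nonneg hne s) hgood p)
      ⟨(2 * (s + 1), 2 * i), mem_idx h, ?_⟩
    have he : dv g (2 * (s + 1), 2 * i) (monomial (Finsupp.single (some ⟨(2 * (s + 1), 2 * i), h⟩) 1) (1 : ℚ)) = 1 := by
      rw [dv, dif_pos h, pderiv_monomial]; simp
    rw [term1, he, mul_one]
    have hx : xv g (((2 * (s + 1), 2 * i) : ℕ × ℕ).1 - 2 : ℤ) (((2 * (s + 1), 2 * i) : ℕ × ℕ).2 : ℤ) =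
        monomial (Finsupp.single (some ⟨(2 * s, 2 * i), hv⟩) 1) 1 := by
      have := xv_valid hv
      rw [X] at this
      rw [← this]
      congr 1
      push_cast; ring
    rw [hx]
    simpa [sig] using ih (by omega) hv

theorem merge_pos {i : ℕ} (hi : 1 ≤ i) (hg : i + 1 ≤ g) (h0 : Valid g (0, 2 * i)) (h31 : Valid g (3, 1)) :
    ∀ (r t : ℕ) (_ : 1 ≤ t) (_ : t + r = 2 * i) (h : Valid g (t + 2, t)),
      0 < sig (some ⟨(0, 2 * i), h0⟩) (r + (i + 1))
        (Finsupp.single (some ⟨(t + 2, t), h⟩) 1 + Finsupp.single (some ⟨(3, 1), h31⟩) r) := by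
  intro r
  induction r with
  | zero =>
    intro t ht htr h
    obtain rfl : t = 2 * i := by omega
    rw [Finsupp.single_zero, add_zero, zero_add]
    exact shift_pos hi hg h0 (i + 1) le_rfl h
  | succ r ih =>
    intro t ht htr h
    have hv : Valid g (t + 1 + 2, t + 1) :=
      ⟨le_rfl, by dsimp; omega, by simp [parity_simps], by simp⟩
    set v₀ : Var g := some ⟨(0, 2 * i), h0⟩
    have hne : v₀ ≠ none := by simp [v₀]
    set d := Finsupp.single (some ⟨(t + 2, t), h⟩ : Var g) 1 + Finsupp.single (some ⟨(3, 1), h31⟩) (r + 1)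
    have hgood : Good d := Good.add_single ⟨by simp, fun v hv' => by
      classical
      by_cases he : v = ⟨(3, 1), h31⟩
      · subst he; exact le_rfl
      · simp [Finsupp.single_apply, Ne.symm he] at hv'⟩ h ht
    rw [show r + 1 + (i + 1) = r + (i + 1) + 1 by omega, sig_succ]
    refine add_pos_of_pos_of_nonneg (mul_pos (by norm_num) ?_)
      (Finset.sum_nonneg fun p _ => term1_nonneg (sig_nonneg hne _) hgood p)
    refine Finset.sum_pos' (fun p _ => Finset.sum_nonneg fun q _ => term2_nonneg hne (sig_nonneg hne _) hgood p q)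
      ⟨(t + 2, t), mem_idx h, Finset.sum_pos' (fun q _ => term2_nonneg hne (sig_nonneg hne _) hgood _ q)
        ⟨(3, 1), mem_idx h31, ?_⟩⟩
    set d₁ := Finsupp.single (some ⟨(t + 2, t), h⟩ : Var g) 1 + Finsupp.single (some ⟨(3, 1), h31⟩) r
    set e := Finsupp.single (some ⟨(3, 1), h31⟩ : Var g) r
    have hd : d = d₁ + Finsupp.single (some ⟨(3, 1), h31⟩) 1 := by
      simp only [d, d₁, Finsupp.single_add, add_assoc]
    have hN1 : 0 < d (some ⟨(3, 1), h31⟩) := by rw [hd]; simp
    have hN2 : 0 < d₁ (some ⟨(t + 2, t), h⟩) := by simp [d₁]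
    have he : dv g (t + 2, t) (dv g (3, 1) (monomial d 1)) =
        ((d (some ⟨(3, 1), h31⟩) : ℚ) * (d₁ (some ⟨(t + 2, t), h⟩) : ℚ)) • monomial e 1 := by
      have e1 : d - Finsupp.single (some ⟨(3, 1), h31⟩) 1 = d₁ := by rw [hd, add_tsub_cancel_right]
      have e2 : d₁ - Finsupp.single (some ⟨(t + 2, t), h⟩) 1 = e := by simp [d₁, e]
      rw [dv, dv, dif_pos h, dif_pos h31, pderiv_monomial, e1, pderiv_monomial, e2, smul_monomial,
        smul_eq_mul, mul_one, one_mul]
    have hdeg : e.degree + 2 = d.degree := by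
      simp only [d, e, map_add, Finsupp.degree_single]; ring
    rw [term2_eq hne _ d he hdeg]
    have hmerge : 0 < mergeCoeff (t + 2) 3 := by
      rw [mergeCoeff, if_neg (by simp)]
      exact Nat.choose_pos (by omega)
    refine mul_pos (mul_pos (mul_pos (by exact_mod_cast hN1) (by exact_mod_cast hN2)) (by exact_mod_cast hmerge)) ?_
    have hx : xv g ((((t + 2, t) : ℕ × ℕ).1 : ℤ) + (((3, 1) : ℕ × ℕ).1 : ℤ) - 2)
        ((((t + 2, t) : ℕ × ℕ).2 : ℤ) + (((3, 1) : ℕ × ℕ).2 : ℤ)) =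
        monomial (Finsupp.single (some ⟨(t + 1 + 2, t + 1), hv⟩) 1) 1 := by
      have := xv_valid hv
      rw [X] at this
      rw [← this]
      congr 1
      push_cast; ring
    rw [hx, monomial_mul, one_mul]
    have := ih (t + 1) (by omega) (by omega) hv
    rw [sig, map_add, Finsupp.degree_single, show 1 + (Finsupp.single _ r : Var g →₀ ℕ).degree + 1 =
      (Finsupp.single (some ⟨(3, 1), h31⟩ : Var g) r).degree + 2 by omega, pow_add, neg_one_sq, mul_one] at this
    exact this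

theorem low_gen (hg : 1 ≤ g) (i : ℕ) :
    ∃ q ∈ Algebra.adjoin ℚ (lowGens g), xv g 0 (2 * (i : ℤ)) - q ∈ relIdeal g := by
  classical
  set A := Algebra.adjoin ℚ (lowGens g)
  let π := Ideal.Quotient.mkₐ ℚ (relIdeal g)
  suffices h : π (xv g 0 (2 * (i : ℤ))) ∈ A.map π by
    obtain ⟨q, hq, hqe⟩ := h
    exact ⟨q, hq, Ideal.Quotient.eq.1 hqe.symm⟩
  induction i using Nat.strong_induction_on with
  | _ i ih =>
    rcases Nat.eq_zero_or_pos i with rfl | hi
    · refine ⟨xv g 0 (2 * ((0 : ℕ) : ℤ)), ?_, rfl⟩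
      unfold xv
      rw [if_pos (by simp)]
      exact natCast_mem A g
    by_cases hlow : 3 * i ≤ g
    · exact ⟨_, Algebra.subset_adjoin (Or.inr ⟨i, hi, hlow, rfl⟩), rfl⟩
    by_cases hbig : i + 1 ≤ g
    swap
    · have : xv g 0 (2 * (i : ℤ)) = 0 := by
        unfold xv
        rw [if_neg (by omega), dif_neg]
        rintro ⟨-, -, -, h, -, -⟩
        simp at h
        omega
      rw [this, map_zero]
      exact zero_mem _
    have h0 : Valid g (0, 2 * i) := ⟨Nat.zero_le _, by dsimp; omega, by simp, by simp; omega⟩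
    have h31 : Valid g (3, 1) := ⟨le_rfl, by dsimp; omega, by decide, by simp⟩
    set v₀ : Var g := some ⟨(0, 2 * i), h0⟩
    set d := Finsupp.single (some ⟨(3, 1), h31⟩ : Var g) (2 * i)
    have hw : Finsupp.weight (wt g) d = (6 * i, 2 * i) := by
      simp only [d, Finsupp.weight_single]
      simp [wt]; omega
    set R := (F g)^[3 * i] (monomial d 1)
    have hR : R ∈ relIdeal g := Ideal.subset_span ⟨d, 3 * i, by rw [hw]; dsimp; omega, rfl⟩
    have hRhom : IsWeightedHomogeneous (wz g) R ((0, ((2 * i : ℕ) : ℤ)) : ℤ × ℤ) := by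
      convert iterate_hom (isWeightedHomogeneous_monomial (wz g) d (1 : ℚ) rfl) (3 * i) using 1
      rw [weight_wz, hw]
      simp only [Prod.mk_add_mk, Prod.mk.injEq]
      constructor <;> push_cast <;> ring
    have hc : coeff (Finsupp.single v₀ 1) R ≠ 0 := by
      have hpos := merge_pos hi hbig h0 h31 (2 * i - 1) 1 le_rfl (by omega) h31
      rw [show 2 * i - 1 + (i + 1) = 3 * i by omega, sig, Lam_apply,
        show Finsupp.single (some ⟨(1 + 2, 1), h31⟩ : Var g) 1 + Finsupp.single (some ⟨(3, 1), h31⟩) (2 * i - 1) = d by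
          rw [← Finsupp.single_add]; simp only [d]; congr 1; omega] at hpos
      intro h
      rw [show coeff (Finsupp.single v₀ 1) ((F g)^[3 * i] (monomial d 1)) = 0 from h, mul_zero] at hpos
      exact lt_irrefl _ hpos
    have hxv : xv g 0 (2 * (i : ℤ)) = X v₀ := by
      rw [← xv_valid h0]; simp
    have hrest : ∀ e ∈ R.support, e ≠ Finsupp.single v₀ 1 → π (monomial e 1) ∈ A.map π := by
      intro e he hne
      have hwe := hRhom (mem_support_iff.1 he)
      rw [weight_wz] at hwe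
      simp only [Prod.mk.injEq] at hwe
      rw [monomial_eq, C_1, one_mul, Finsupp.prod, map_prod]
      refine Subalgebra.prod_mem _ fun v hv => ?_
      rw [map_pow]
      refine pow_mem ?_ _
      have hle : e v • wt g v ≤ Finsupp.weight (wt g) e := by
        rw [Finsupp.weight_apply, Finsupp.sum]
        exact Finset.single_le_sum (f := fun v => e v • wt g v) (fun _ _ => zero_le) hv
      have hev : 1 ≤ e v := Nat.one_le_iff_ne_zero.2 (Finsupp.mem_support_iff.1 hv)
      rcases v with - | ⟨⟨a, b⟩, hab⟩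
      · exact ⟨_, Algebra.subset_adjoin (Or.inl rfl), rfl⟩
      rw [Prod.le_def] at hle
      simp only [wt, Prod.smul_mk, smul_eq_mul] at hle
      have ha0 : a = 0 := by
        have : a ≤ e (some ⟨(a, b), hab⟩) * a := Nat.le_mul_of_pos_left _ hev
        omega
      subst ha0
      obtain ⟨j, hj⟩ : ∃ j, b = 2 * j := by
        have hpar := hab.2.2.1
        obtain ⟨j, hj⟩ := hpar
        exact ⟨j, by dsimp only at hj; omega⟩
      subst hj
      have hjle : 2 * j ≤ e (some ⟨(0, 2 * j), hab⟩) * (2 * j) := Nat.le_mul_of_pos_left _ hev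
      rcases lt_or_ge j i with hji | hji
      · have := ih j hji
        rwa [show xv g 0 (2 * (j : ℤ)) = X (some ⟨(0, 2 * j), hab⟩) by rw [← xv_valid hab]; simp] at this
      exfalso
      apply hne
      obtain rfl : j = i := by omega
      have he1 : e v₀ = 1 := by
        by_contra h
        have : 2 * (2 * j) ≤ e (some ⟨(0, 2 * j), hab⟩) * (2 * j) :=
          Nat.mul_le_mul_right _ (show 2 ≤ e v₀ by
            have : 1 ≤ e v₀ := hev
            omega)
        omega
      ext u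
      rcases eq_or_ne u v₀ with rfl | hu
      · simp [he1]
      · rw [Finsupp.single_apply, if_neg (Ne.symm hu)]
        by_contra hu0
        have h2 : e v₀ • wt g v₀ + e u • wt g u ≤ Finsupp.weight (wt g) e := by
          rw [Finsupp.weight_apply, Finsupp.sum,
            ← Finset.sum_pair (f := fun v => e v • wt g v) (Ne.symm hu)]
          refine Finset.sum_le_sum_of_subset ?_
          intro x hx
          rw [Finset.mem_insert, Finset.mem_singleton] at hx
          rcases hx with rfl | rfl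
          · exact hv
          · exact Finsupp.mem_support_iff.2 hu0
        rw [Prod.le_def] at h2
        have hu1 : 1 ≤ e u := Nat.one_le_iff_ne_zero.2 hu0
        rcases u with - | ⟨⟨a', b'⟩, hab'⟩
        · simp only [wt, v₀, he1, Prod.smul_mk, smul_eq_mul, Prod.mk_add_mk] at h2
          omega
        · simp only [wt, v₀, he1, Prod.smul_mk, smul_eq_mul, Prod.mk_add_mk] at h2
          have h4 := hab'.2.2.2
          have : a' ≤ e (some ⟨(a', b'), hab'⟩) * a' := Nat.le_mul_of_pos_left _ hu1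
          have : b' ≤ e (some ⟨(a', b'), hab'⟩) * b' := Nat.le_mul_of_pos_left _ hu1
          exact h4 (Prod.ext (show a' = 0 by omega) (show b' = 0 by omega))
    have h00 : π R = 0 := Ideal.Quotient.eq_zero_iff_mem.2 hR
    rw [R.as_sum, map_sum, ← Finset.add_sum_erase _ _ (mem_support_iff.2 hc)] at h00
    have hmem : π (monomial (Finsupp.single v₀ 1) (coeff (Finsupp.single v₀ 1) R)) ∈ A.map π := by
      rw [eq_neg_of_add_eq_zero_left h00]
      refine neg_mem (sum_mem fun e he => ?_)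
      rw [← mul_one (coeff e R), ← smul_eq_mul, ← smul_monomial, map_smul]
      exact Subalgebra.smul_mem _ (hrest e (Finset.mem_of_mem_erase he) (Finset.ne_of_mem_erase he)) _
    rw [← mul_one (coeff _ R), ← smul_eq_mul, ← smul_monomial, map_smul] at hmem
    have := Subalgebra.smul_mem _ hmem (coeff (Finsupp.single v₀ 1) R)⁻¹
    rwa [inv_smul_smul₀ hc, ← X, ← hxv] at this

end Groth.Agent.TautJac
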